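import Groth.Agent.ProjBd.K42.FibPB
import Groth.Agent.MorSch.K921.P1Ideal
import Groth.Agent.Sga67.TwistProj
import Groth.Agent.S15990

/-!
# The line bundle of a section of a `P^1`-fibration

* `mk_eq_pull`: inverses of ideals of divisors and inverse images;
* `exists_geom`: geometric fibres; `nonempty_pull`: the inverse of the ideal of a section restricts to `O(1)` on
  fibres; `fibPn`.
-/

set_option autoImplicit false
universe u
open CategoryTheory CategoryTheory.Limits AlgebraicGeometry TopologicalSpace Opposite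

namespace K42.SecP1

open Groth.Agent Groth.Agent.Grpsch.PicGrp Groth.Agent.Dix.IdealModCartier Groth.Agent.Fdesc.LocGen

/-- The classes of the inverses of the ideals of a divisor and of its inverse image. -/
theorem mk_eq_pull {X X' : Scheme.{u}} (f : X ⟶ X') {D : X.IdealSheafData} {D' : X'.IdealSheafData}
    (hD : BlowUp.IsEffCartierIdeal D) (hD' : BlowUp.IsEffCartierIdeal D') (hc : D'.comap f = D)
    {L : X.Modules} {L' : X'.Modules} (hL : ClSub.IsInverseOf L (ClSub.idealMod D))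
    (hL' : ClSub.IsInverseOf L' (ClSub.idealMod D')) (hLi : PicF.IsInvertible L) (hLi' : PicF.IsInvertible L') :
    mk L hLi = pull f (mk L' hLi') := by
  subst hc
  have hI := (isInvertible_of_isInverseOf hL).2
  have hI' := (isInvertible_of_isInverseOf hL').2
  obtain ⟨θ⟩ := pullback_idealMod f hD' hD
  have h1 : mk L hLi * mk _ hI = 1 := by
    obtain ⟨e⟩ := hL
    rw [mk_mul_mk, mk_eq_one_iff]
    exact ⟨e⟩
  have h2 : mk L' hLi' * mk _ hI' = 1 := by
    obtain ⟨e⟩ := hL'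
    rw [mk_mul_mk, mk_eq_one_iff]
    exact ⟨e⟩
  have h3 : pull f (mk _ hI') = mk _ hI := by
    rw [pull_mk]
    exact mk_congr θ
  have h4 := congrArg (pull f) h2
  rw [map_mul, map_one, h3] at h4
  exact mul_right_cancel (h1.trans h4.symm)

/-- `O(1) ⊗ O(-1) ≅ O`. -/
theorem nonempty_unit (r : ℕ) (A : Type u) [CommRing A] (i j : ℤ) (h : i + j = 0) :
    Nonempty (CohB1.tensorMod (Twist.twistProjSpace r A i) (Twist.twistProjSpace r A j) ≅
      Coh.structureModule (CohB1.ProjSpace r A)) := by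
  obtain ⟨a⟩ := Sga67.TwistProj.nonempty_mul r A i j
  obtain ⟨c⟩ := Ega2.TwistInv.nonempty_unit_iso (CohB1.polyGrading r A)
  have h0 : Twist.twistProjSpace r A (i + j) = Twist.twist (CohB1.polyGrading r A) 0 := by rw [h]; rfl
  exact ⟨a ≪≫ eqToIso h0 ≪≫ c.symm⟩

/-- The inverse of the ideal of a rational point of `P^1_K` is `O(1)`. -/
theorem isInverseOf_ker {K : Type u} [Field K] (s : Spec (CommRingCat.of K) ⟶ CohB1.ProjSpace 1 K)
    (hs : s ≫ CohB1.ProjSpace.toSpec 1 K = 𝟙 _) :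
    ClSub.IsInverseOf (Twist.twistProjSpace 1 K 1) (ClSub.idealMod s.ker) := by
  obtain ⟨e⟩ := K921.P1Ideal.nonempty_idealMod_iso K s hs
  obtain ⟨v⟩ := nonempty_unit 1 K 1 (-1) (by ring)
  exact ⟨Ega2.Tens.mapTIso (Iso.refl _) e ≪≫ v⟩

variable {C B : Scheme.{u}} (f : C ⟶ B)

/-- The inverse of the ideal of a section. -/
structure IsO [IsSeparated f] [SmoothOfRelativeDimension 1 f] (s : B ⟶ C) (L : C.Modules) : Prop where
  inv : PicF.IsInvertible L
  ker : ClSub.IsInverseOf L (ClSub.idealMod s.ker)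

theorem exists_isO [IsSeparated f] [SmoothOfRelativeDimension 1 f] (s : B ⟶ C) (hs : s ≫ f = 𝟙 B) :
    ∃ L : C.Modules, IsO f s L := by
  have h1 : PicF.IsInvertible (ClSub.idealMod s.ker) := isInvertible_idealMod (S15990.result f s hs).1
  obtain ⟨M, hM, ⟨e⟩⟩ := exists_inverse h1
  exact ⟨M, hM, ⟨Ega2.Tens.swap _ _ ≪≫ e⟩⟩

theorem isClosedImmersion_of_section [IsSeparated f] {s : B ⟶ C} (hs : s ≫ f = 𝟙 B) : IsClosedImmersion s := by
  have : IsClosedImmersion (s ≫ f) := by rw [hs]; infer_instance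
  exact IsClosedImmersion.of_comp _ f

variable {f}

/-- Base change of a section. -/
theorem isPullback_sec {P T : Scheme.{u}} {g : P ⟶ C} {p : P ⟶ T} {t : T ⟶ B} (sq : IsPullback g p f t)
    {s : B ⟶ C} (hs : s ≫ f = 𝟙 B) {sT : T ⟶ P} (h1 : sT ≫ g = t ≫ s) (h2 : sT ≫ p = 𝟙 T) :
    IsPullback t sT s g := by
  refine IsPullback.of_bot (v₂₁ := p) (v₂₂ := f) (h₃₁ := t) ?_ h1.symm sq
  rw [h2, hs]
  exact IsPullback.of_vert_isIso ⟨by simp⟩

theorem ker_sec [IsSeparated f] {P T : Scheme.{u}} {g : P ⟶ C} {p : P ⟶ T} {t : T ⟶ B} (sq : IsPullback g p f t)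
    {s : B ⟶ C} (hs : s ≫ f = 𝟙 B) {sT : T ⟶ P} (h1 : sT ≫ g = t ≫ s) (h2 : sT ≫ p = 𝟙 T) :
    s.ker.comap g = sT.ker := by
  have := isClosedImmersion_of_section f hs
  exact (Picfga.SecGraph.ker_eq_comap_of_isPullback (isPullback_sec sq hs h1 h2)).symm

/-- `O(s)` restricts to `O(1)` on the fibres which are projective lines. -/
theorem nonempty_pull [IsSeparated f] [SmoothOfRelativeDimension 1 f] {s : B ⟶ C} (hs : s ≫ f = 𝟙 B)
    {L : C.Modules} (hL : IsO f s L) {K : Type u} [Field K] {g : CohB1.ProjSpace 1 K ⟶ C}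
    {t : Spec (CommRingCat.of K) ⟶ B} (sq : IsPullback g (CohB1.ProjSpace.toSpec 1 K) f t) :
    Nonempty ((Scheme.Modules.pullback g).obj L ≅ Twist.twistProjSpace 1 K 1) := by
  let sK : Spec (CommRingCat.of K) ⟶ CohB1.ProjSpace 1 K := sq.lift (t ≫ s) (𝟙 _) (by
    rw [Category.assoc, hs, Category.comp_id, Category.id_comp])
  have h1 : sK ≫ g = t ≫ s := sq.lift_fst _ _ _
  have h2 : sK ≫ CohB1.ProjSpace.toSpec 1 K = 𝟙 _ := sq.lift_snd _ _ _
  have i0 : SmoothOfRelativeDimension 1 (CohB1.ProjSpace.toSpec 1 K) := Sga5.ProjSmooth.smooth_toSpec 1 K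
  have h3 := (S15990.result (CohB1.ProjSpace.toSpec 1 K) sK h2).1
  have h4 := mk_eq_pull g h3 (S15990.result f s hs).1 (ker_sec sq hs h1 h2) (isInverseOf_ker sK h2) hL.ker
    (FormalB.TwistGen.isInvertible_twistProjSpace 1 K 1) hL.inv
  rw [pull_mk, mk_eq_iff] at h4
  obtain ⟨e⟩ := h4
  exact ⟨e.symm⟩

/-- The hypothesis on geometric fibres. -/
def GeomP1 (f : C ⟶ B) : Prop :=
  ∀ (Ω : Type u) [Field Ω] [IsAlgClosed Ω] (b : Spec (CommRingCat.of Ω) ⟶ B),
    ∃ e : pullback f b ≅ CohB1.ProjSpace 1 Ω, e.hom ≫ CohB1.ProjSpace.toSpec 1 Ω = pullback.snd f b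

theorem exists_geom (hf : GeomP1 f) (b : B) : ∃ (K : Type u) (_ : Field K) (t : Spec (CommRingCat.of K) ⟶ B)
    (g : CohB1.ProjSpace 1 K ⟶ C), (∀ x, t x = b) ∧ IsPullback g (CohB1.ProjSpace.toSpec 1 K) f t := by
  let K := AlgebraicClosure (B.residueField b)
  let t : Spec (CommRingCat.of K) ⟶ B :=
    Spec.map (CommRingCat.ofHom (algebraMap (B.residueField b) K)) ≫ B.fromSpecResidueField b
  obtain ⟨e, he⟩ := hf K t
  refine ⟨K, inferInstance, t, e.inv ≫ pullback.fst f t, fun x => ?_, ?_⟩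
  · have h1 : t x ∈ Set.range (B.fromSpecResidueField b) := ⟨_, rfl⟩
    rw [Scheme.range_fromSpecResidueField] at h1
    exact h1
  · refine IsPullback.of_iso (IsPullback.of_hasPullback f t) e (Iso.refl _) (Iso.refl _) (Iso.refl _) ?_ ?_ ?_ ?_
    · simp
    · simpa using he.symm
    · simp
    · simp

/-- `O(s)` has fibres `(P^1, O(1))`. -/
theorem fibPn [IsSeparated f] [SmoothOfRelativeDimension 1 f] (hf : GeomP1 f) {s : B ⟶ C} (hs : s ≫ f = 𝟙 B)
    {L : C.Modules} (hL : IsO f s L) (b : B) : FibPn.FibPn f L 1 b := by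
  obtain ⟨K, hK, t, g, ht, sq⟩ := exists_geom hf b
  exact ⟨K, hK, t, g, ht, sq, nonempty_pull hs hL sq⟩

/-- Twisting by the base. -/
theorem fibPn_tensor {r : ℕ} {L : C.Modules} {b : B} (hL : PicF.IsInvertible L) (h : FibPn.FibPn f L r b)
    {M : B.Modules} (hM : PicF.IsInvertible M) :
    FibPn.FibPn f (CohB1.tensorMod L ((Scheme.Modules.pullback f).obj M)) r b := by
  obtain ⟨K, hK, t, g, ht, sq, ⟨e⟩⟩ := h
  refine ⟨K, hK, t, g, ht, sq, ?_⟩
  have hT : PicF.IsInvertible (Twist.twistProjSpace r K 1) := FormalB.TwistGen.isInvertible_twistProjSpace r K 1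
  have h1 : pull g (mk _ (isInvertible_tensorMod hL (isInvertible_pullback f hM))) =
      mk (Twist.twistProjSpace r K 1) hT := by
    rw [← mk_mul_mk hL (isInvertible_pullback f hM), map_mul, ← pull_mk f hM, ← pull_comp, sq.w, pull_comp,
      pic_spec_local K (pull t (mk M hM)), map_one, mul_one, pull_mk, mk_eq_iff]
    exact ⟨e⟩
  rw [pull_mk, mk_eq_iff] at h1
  exact h1

end K42.SecP1
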